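import Cfsg.Agent.Blocks.Idempotent
import Cfsg.Agent.FlagChar.Unipotent

/-!
# The centre of a Hecke algebra and the constituents of a permutation character

For a subgroup `B` of a finite group `G` with averaging idempotent `e`, the centre of the algebra
`e ℂ[G] e` is `e` times the centre of `ℂ[G]`: the map `z ↦ e · ∑ x z x⁻¹` is injective on it, since
`∑ e x e x⁻¹ e` is positive definite.  Its dimension is the number of constituents of the
permutation character on the cosets of `B`.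
-/

set_option autoImplicit false
set_option linter.unusedSectionVars false
set_option linter.style.haveILetI false

namespace CfsgLib.HeckeCentre

open Cfsg CfsgLib.Blocks MonoidAlgebra
open scoped ComplexConjugate

universe u

variable {G : Type u} [Group G] [Fintype G] (B : Subgroup G) [Fintype B]

/-- The averaging idempotent of `B`. -/
noncomputable def avE : MonoidAlgebra ℂ G :=
  ∑ b : B, MonoidAlgebra.single (b : G) (Nat.card B : ℂ)⁻¹

/-- A group element in the group algebra. -/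
noncomputable abbrev dl (x : G) : MonoidAlgebra ℂ G := MonoidAlgebra.single x 1

theorem dl_mul (x y : G) : dl x * dl y = dl (x * y) := by
  rw [MonoidAlgebra.single_mul_single, one_mul]

theorem avE_mul_mem {b : G} (hb : b ∈ B) : avE B * dl b = avE B := by
  rw [avE, Finset.sum_mul]
  exact Fintype.sum_equiv (Equiv.mulRight (⟨b, hb⟩ : B)) _ _ fun x => by
    rw [MonoidAlgebra.single_mul_single, mul_one]
    rfl

theorem mem_mul_avE {b : G} (hb : b ∈ B) : dl b * avE B = avE B := by
  rw [avE, Finset.mul_sum]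
  exact Fintype.sum_equiv (Equiv.mulLeft (⟨b, hb⟩ : B)) _ _ fun x => by
    rw [MonoidAlgebra.single_mul_single, one_mul]
    rfl

theorem avE_mul_avE : avE B * avE B = avE B := by
  conv_lhs => arg 2; rw [avE]
  rw [Finset.mul_sum]
  have : ∀ b : B, avE B * MonoidAlgebra.single (b : G) (Nat.card B : ℂ)⁻¹ =
      (Nat.card B : ℂ)⁻¹ • avE B := fun b => by
    rw [show MonoidAlgebra.single (b : G) (Nat.card B : ℂ)⁻¹ = (Nat.card B : ℂ)⁻¹ • dl (b : G) by
      rw [MonoidAlgebra.smul_single, smul_eq_mul, mul_one], mul_smul_comm, avE_mul_mem B b.2]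
  rw [Finset.sum_congr rfl fun b _ => this b, Finset.sum_const, Finset.card_univ,
    ← Nat.card_eq_fintype_card, ← Nat.cast_smul_eq_nsmul ℂ, smul_smul,
    mul_inv_cancel₀ (Nat.cast_ne_zero.2 Nat.card_pos.ne'), one_smul]

/-! ### The standard form -/

/-- The standard Hermitian form on the group algebra. -/
noncomputable def ip (u v : MonoidAlgebra ℂ G) : ℂ := ∑ g : G, conj (u.coeff g) * v.coeff g

theorem ip_dl (x : G) (u v : MonoidAlgebra ℂ G) : ip (dl x * u) v = ip u (dl x⁻¹ * v) := by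
  rw [ip, ip]
  refine Fintype.sum_equiv (Equiv.mulLeft x⁻¹) _ _ fun g => ?_
  simp [MonoidAlgebra.coeff_single_mul_apply]

theorem ip_sum_left {ι : Type*} (s : Finset ι) (f : ι → MonoidAlgebra ℂ G)
    (v : MonoidAlgebra ℂ G) : ip (∑ i ∈ s, f i) v = ∑ i ∈ s, ip (f i) v := by
  simp only [ip, MonoidAlgebra.coeff_sum, Finsupp.finsetSum_apply, map_sum, Finset.sum_mul]
  exact Finset.sum_comm

theorem ip_sum_right {ι : Type*} (s : Finset ι) (u : MonoidAlgebra ℂ G)
    (f : ι → MonoidAlgebra ℂ G) : ip u (∑ i ∈ s, f i) = ∑ i ∈ s, ip u (f i) := by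
  simp only [ip, MonoidAlgebra.coeff_sum, Finsupp.finsetSum_apply, Finset.mul_sum]
  exact Finset.sum_comm

theorem ip_avE (u v : MonoidAlgebra ℂ G) : ip (avE B * u) v = ip u (avE B * v) := by
  rw [avE, Finset.sum_mul, Finset.sum_mul, ip_sum_left, ip_sum_right]
  refine Fintype.sum_equiv (Equiv.inv B) _ _ fun b => ?_
  rw [Equiv.inv_apply, InvMemClass.coe_inv]
  simp only [show ∀ x : G, MonoidAlgebra.single x (Nat.card B : ℂ)⁻¹ = (Nat.card B : ℂ)⁻¹ • dl x
    from fun x => by rw [MonoidAlgebra.smul_single, smul_eq_mul, mul_one], smul_mul_assoc]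
  have h1 := ip_dl (b : G) u v
  simp only [ip, MonoidAlgebra.coeff_smul, Finsupp.smul_apply, smul_eq_mul, map_mul,
    map_inv₀, Complex.conj_natCast] at h1 ⊢
  rw [Finset.sum_congr rfl fun g _ => mul_assoc _ _ _, ← Finset.mul_sum, h1, Finset.mul_sum]
  exact Finset.sum_congr rfl fun g _ => by ring

theorem ip_self_re (u : MonoidAlgebra ℂ G) :
    ip u u = ((∑ g : G, Complex.normSq (u.coeff g) : ℝ) : ℂ) := by
  rw [ip, Complex.ofReal_sum]
  exact Finset.sum_congr rfl fun g _ => (Complex.normSq_eq_conj_mul_self).symm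

theorem eq_zero_of_sum_ip {ι : Type*} [Fintype ι] (f : ι → MonoidAlgebra ℂ G)
    (h : ∑ i, ip (f i) (f i) = 0) (i : ι) : f i = 0 := by
  simp only [ip_self_re, ← Complex.ofReal_sum, Complex.ofReal_eq_zero] at h
  rw [Finset.sum_eq_zero_iff_of_nonneg fun i _ => Finset.sum_nonneg fun g _ => Complex.normSq_nonneg _] at h
  have h2 := h i (Finset.mem_univ _)
  rw [Finset.sum_eq_zero_iff_of_nonneg fun g _ => Complex.normSq_nonneg _] at h2
  exact MonoidAlgebra.ext (Finsupp.ext fun g => by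
    simpa using Complex.normSq_eq_zero.1 (h2 g (Finset.mem_univ _)))

/-! ### The centre of the Hecke algebra -/

/-- The sum of the conjugates. -/
noncomputable def conjAv : MonoidAlgebra ℂ G →ₗ[ℂ] MonoidAlgebra ℂ G :=
  ∑ x : G, (LinearMap.mulRight ℂ (dl x⁻¹)).comp (LinearMap.mulLeft ℂ (dl x))

theorem conjAv_apply (u : MonoidAlgebra ℂ G) : conjAv u = ∑ x : G, dl x * u * dl x⁻¹ := by
  rw [conjAv, LinearMap.sum_apply]
  rfl

theorem conjAv_mem (u : MonoidAlgebra ℂ G) : conjAv u ∈ Ctr ℂ G := by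
  refine Subring.mem_center_iff.2 fun b => ?_
  induction b using MonoidAlgebra.induction_linear with
  | zero => simp
  | add x y hx hy => rw [add_mul, mul_add, hx, hy]
  | single y r =>
    rw [show MonoidAlgebra.single y r = r • dl y by
      rw [MonoidAlgebra.smul_single, smul_eq_mul, mul_one], smul_mul_assoc, mul_smul_comm]
    congr 1
    rw [conjAv_apply, Finset.mul_sum, Finset.sum_mul]
    refine Fintype.sum_equiv (Equiv.mulLeft y) _ _ fun x => ?_
    rw [Equiv.coe_mulLeft, ← mul_assoc, ← mul_assoc, dl_mul, mul_assoc _ (dl (y * x)⁻¹), dl_mul,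
      mul_inv_rev, inv_mul_cancel_right]

/-- The centre of `e ℂ[G] e`. -/
noncomputable def heckeCtr : Submodule ℂ (MonoidAlgebra ℂ G) where
  carrier := {v | avE B * v = v ∧ v * avE B = v ∧
    ∀ x : G, avE B * dl x * avE B * v = v * (avE B * dl x * avE B)}
  zero_mem' := by simp
  add_mem' := fun {u v} hu hv => ⟨by rw [mul_add, hu.1, hv.1], by rw [add_mul, hu.2.1, hv.2.1],
    fun x => by rw [mul_add, add_mul, hu.2.2, hv.2.2]⟩
  smul_mem' := fun c v hv => ⟨by rw [mul_smul_comm, hv.1], by rw [smul_mul_assoc, hv.2.1],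
    fun x => by rw [mul_smul_comm, smul_mul_assoc, hv.2.2]⟩

theorem avE_mul_ctr_mem {a : MonoidAlgebra ℂ G} (ha : a ∈ Ctr ℂ G) :
    avE B * a ∈ heckeCtr B := by
  have hc := Subring.mem_center_iff.1 ha
  refine ⟨by rw [← mul_assoc, avE_mul_avE],
    by rw [mul_assoc, ← hc, ← mul_assoc, avE_mul_avE], fun x => ?_⟩
  rw [show avE B * a * (avE B * dl x * avE B) = avE B * (avE B * dl x * avE B) * a by
    rw [mul_assoc (avE B), ← hc, ← mul_assoc]]
  simp only [← mul_assoc, avE_mul_avE]
  rw [mul_assoc (avE B * dl x) (avE B) (avE B), avE_mul_avE]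

theorem avE_conjAv {z : MonoidAlgebra ℂ G} (hz : z ∈ heckeCtr B) :
    avE B * conjAv z = z * (avE B * conjAv (avE B)) := by
  have key : ∀ u : MonoidAlgebra ℂ G, avE B * conjAv u =
      ∑ x : G, avE B * dl x * u * dl x⁻¹ * avE B := by
    intro u
    have hc := Subring.mem_center_iff.1 (conjAv_mem u) (avE B)
    rw [show avE B * conjAv u = avE B * conjAv u * avE B by
      rw [mul_assoc, ← hc, ← mul_assoc, avE_mul_avE], conjAv_apply, Finset.mul_sum, Finset.sum_mul]
    exact Finset.sum_congr rfl fun x _ => by simp only [mul_assoc]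
  rw [key, key, Finset.mul_sum]
  refine Finset.sum_congr rfl fun x _ => ?_
  calc avE B * dl x * z * dl x⁻¹ * avE B
      = avE B * dl x * (avE B * z) * dl x⁻¹ * avE B := by rw [hz.1]
    _ = (avE B * dl x * avE B * z) * (dl x⁻¹ * avE B) := by simp only [mul_assoc]
    _ = z * (avE B * dl x * avE B) * (dl x⁻¹ * avE B) := by rw [hz.2.2]
    _ = z * (avE B * dl x * avE B * dl x⁻¹ * avE B) := by simp only [mul_assoc]

/-- The centre of `e ℂ[G] e` is `e` times the centre of `ℂ[G]`. -/
theorem exists_ctr {z : MonoidAlgebra ℂ G} (hz : z ∈ heckeCtr B) :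
    ∃ a ∈ Ctr ℂ G, z = avE B * a := by
  set φ : heckeCtr B →ₗ[ℂ] heckeCtr B :=
    (((LinearMap.mulLeft ℂ (avE B)).comp conjAv).comp (heckeCtr B).subtype).codRestrict _
      fun u => avE_mul_ctr_mem B (conjAv_mem (u : MonoidAlgebra ℂ G)) with hφ
  have hinj : Function.Injective φ := by
    rw [← LinearMap.ker_eq_bot, LinearMap.ker_eq_bot']
    rintro ⟨v, hv⟩ h0
    have h1 : avE B * conjAv v = 0 := congrArg Subtype.val h0
    rw [avE_conjAv B hv] at h1
    have hc := Subring.mem_center_iff.1 (conjAv_mem (avE B))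
    have h2 : avE B * conjAv (avE B) * v = 0 := by
      rw [mul_assoc, ← hc, ← mul_assoc, hv.1]
      calc v * conjAv (avE B) = v * avE B * conjAv (avE B) := by rw [hv.2.1]
        _ = 0 := by rw [mul_assoc, h1]
    have hsum : ∑ x : G, ip (avE B * (dl x⁻¹ * v)) (avE B * (dl x⁻¹ * v)) = 0 := by
      calc ∑ x : G, ip (avE B * (dl x⁻¹ * v)) (avE B * (dl x⁻¹ * v))
          = ∑ x : G, ip v (dl x * avE B * dl x⁻¹ * v) := Finset.sum_congr rfl fun x _ => by
            rw [ip_avE, ip_dl, inv_inv, ← mul_assoc (avE B), avE_mul_avE]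
            simp only [mul_assoc]
        _ = ip v (conjAv (avE B) * v) := by
            rw [conjAv_apply, Finset.sum_mul, ip_sum_right]
        _ = ip (avE B * v) (conjAv (avE B) * v) := by rw [hv.1]
        _ = 0 := by
            rw [ip_avE, ← mul_assoc, h2]
            simp [ip]
    have h3 := eq_zero_of_sum_ip _ hsum 1
    rw [inv_one, show dl (1 : G) = (1 : MonoidAlgebra ℂ G) from MonoidAlgebra.one_def.symm,
      one_mul, hv.1] at h3
    exact Subtype.ext h3
  obtain ⟨u, hu⟩ := LinearMap.surjective_of_injective hinj ⟨z, hz⟩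
  exact ⟨_, conjAv_mem (u : MonoidAlgebra ℂ G), (congrArg Subtype.val hu).symm⟩

/-! ### The constituents -/

theorem fixedPointCharacter_eq (g : G) :
    Cfsg.fixedPointCharacter B g =
      (Nat.card B : ℂ)⁻¹ * (Nat.card {x : G // x⁻¹ * g * x ∈ B} : ℂ) := by
  have e : Nat.card {x : G // x⁻¹ * g * x ∈ B} =
      Nat.card B * Nat.card (MulAction.fixedBy (G ⧸ B) g) := by
    rw [← Nat.card_prod]
    refine Nat.card_congr ((Equiv.subtypeEquivRight fun x => ?_).trans
      ((QuotientGroup.preimageMkEquivSubgroupProdSet B _)))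
    rw [Set.mem_preimage, MulAction.mem_fixedBy]
    show x⁻¹ * g * x ∈ B ↔ ((g * x : G) : G ⧸ B) = (x : G)
    rw [QuotientGroup.eq, ← inv_mem_iff]
    simp [mul_assoc]
  rw [e, Cfsg.fixedPointCharacter, Nat.cast_mul, ← mul_assoc,
    inv_mul_cancel₀ (Nat.cast_ne_zero.2 Nat.card_pos.ne'), one_mul]

/-- The sum of a character over `B`. -/
noncomputable def subSum (χ : G → ℂ) : ℂ := ∑ b : B, χ (b : G)

theorem classInner_fixed (χ : IrrCharacter G) :
    Cfsg.classInner (Cfsg.fixedPointCharacter B) (χ : G → ℂ) =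
      (Nat.card B : ℂ)⁻¹ * conj (subSum B (χ : G → ℂ)) := by
  classical
  have h : ∀ g : G, (Nat.card {x : G // x⁻¹ * g * x ∈ B} : ℂ) * conj ((χ : G → ℂ) g) =
      ∑ x : G, if x⁻¹ * g * x ∈ B then conj ((χ : G → ℂ) (x⁻¹ * g * x)) else 0 := by
    intro g
    rw [← Finset.sum_filter, Finset.sum_congr rfl (g := fun _ => conj ((χ : G → ℂ) g))
      fun x _ => by
        have := Characters.isClassFunction_of_isIrr χ.2 g x⁻¹
        rw [inv_inv] at this
        rw [this],
      Finset.sum_const, nsmul_eq_mul, Nat.card_eq_fintype_card, Fintype.card_subtype]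
  simp only [Cfsg.classInner, fixedPointCharacter_eq]
  rw [show (∑ g : G, (Nat.card B : ℂ)⁻¹ * (Nat.card {x : G // x⁻¹ * g * x ∈ B} : ℂ) *
      conj ((χ : G → ℂ) g)) = (Nat.card B : ℂ)⁻¹ *
        ∑ g : G, (Nat.card {x : G // x⁻¹ * g * x ∈ B} : ℂ) * conj ((χ : G → ℂ) g) by
      rw [Finset.mul_sum]; exact Finset.sum_congr rfl fun g _ => mul_assoc _ _ _,
    Finset.sum_congr rfl fun g _ => h g, Finset.sum_comm]
  have h2 : ∀ x : G, (∑ g : G, if x⁻¹ * g * x ∈ B then conj ((χ : G → ℂ) (x⁻¹ * g * x)) else 0) =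
      conj (subSum B (χ : G → ℂ)) := by
    intro x
    rw [subSum, map_sum, Fintype.sum_equiv (MulAut.conj x⁻¹).toEquiv _
      (fun y => if y ∈ B then conj ((χ : G → ℂ) y) else 0) (fun g => by simp [mul_assoc]),
      ← Finset.sum_filter]
    exact (Finset.sum_subtype _ (fun y => by simp) _)
  rw [Finset.sum_congr rfl fun x _ => h2 x, Finset.sum_const, Finset.card_univ, nsmul_eq_mul,
    ← Nat.card_eq_fintype_card (α := G)]
  field_simp [Characters.natCard_ne_zero]

theorem exists_add_iff (χ : IrrCharacter G) :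
    (∃ φ : G → ℂ, Cfsg.IsCharacter G φ ∧
      Cfsg.fixedPointCharacter B = (χ : G → ℂ) + φ) ↔ subSum B (χ : G → ℂ) ≠ 0 := by
  classical
  have hπ := FlagChar.isCharacter_fixedPointCharacter B
  constructor
  · rintro ⟨φ, hφ, e⟩ h0
    obtain ⟨m, hm⟩ := Characters.classInner_character_irr hφ χ.2
    have h1 := classInner_fixed B χ
    rw [h0, map_zero, mul_zero, e, Characters.classInner_add_left, Characters.classInner_irr,
      if_pos rfl, hm, ← Nat.cast_one, ← Nat.cast_add, Nat.cast_eq_zero] at h1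
    omega
  · intro h0
    refine ⟨Cfsg.fixedPointCharacter B - (χ : G → ℂ), ?_, by rw [add_sub_cancel]⟩
    refine Characters.isCharacter_of_classInner (fun g x => ?_) fun ψ => ?_
    · simp only [Pi.sub_apply]
      rw [Characters.isClassFunction_of_isCharacter hπ, Characters.isClassFunction_of_isIrr χ.2]
    · obtain ⟨m, hm⟩ := Characters.classInner_character_irr hπ ψ.2
      rw [Characters.classInner_sub_left, hm, Characters.classInner_irr]
      split_ifs with h
      · subst h
        have hm0 : m ≠ 0 := by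
          rintro rfl
          rw [classInner_fixed, Nat.cast_zero, mul_eq_zero, inv_eq_zero, Nat.cast_eq_zero,
            map_eq_zero] at hm
          exact hm.elim Nat.card_pos.ne' h0
        exact ⟨m - 1, by rw [Nat.cast_sub (Nat.one_le_iff_ne_zero.2 hm0), Nat.cast_one]⟩
      · exact ⟨m, by rw [sub_zero]⟩

theorem evalFun_avE (θ : G → ℂ) : evalFun θ (avE B) = (Nat.card B : ℂ)⁻¹ * subSum B θ := by
  classical
  rw [subSum, Finset.mul_sum, avE, evalFun]
  simp only [MonoidAlgebra.coeff_sum, Finsupp.finsetSum_apply, MonoidAlgebra.coeff_single,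
    Finsupp.single_apply, Finset.sum_mul, ite_mul, zero_mul]
  rw [Finset.sum_comm]
  simp

theorem coeff_eq_sum_evalFun (a : MonoidAlgebra ℂ G) (g : G) :
    a.coeff g = (Nat.card G : ℂ)⁻¹ *
      ∑ χ : IrrCharacter G, (χ : G → ℂ) 1 * evalFun (χ : G → ℂ) (a * dl g⁻¹) := by
  classical
  simp only [evalFun, Finset.mul_sum]
  rw [Finset.sum_comm, Finset.sum_eq_single (1 : G)]
  · rw [← Finset.mul_sum, show (∑ χ : IrrCharacter G, (χ : G → ℂ) 1 * ((a * dl g⁻¹).coeff 1 *
        (χ : G → ℂ) 1)) = (a * dl g⁻¹).coeff 1 *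
        ∑ χ : IrrCharacter G, (χ : G → ℂ) 1 * (χ : G → ℂ) 1 by
      rw [Finset.mul_sum]; exact Finset.sum_congr rfl fun χ _ => by ring,
      Characters.sum_degree_mul, if_pos rfl, MonoidAlgebra.coeff_mul_single_apply, one_mul,
      inv_inv, mul_one]
    field_simp [Characters.natCard_ne_zero]
  · intro y _ hy
    rw [← Finset.mul_sum, show (∑ χ : IrrCharacter G, (χ : G → ℂ) 1 * ((a * dl g⁻¹).coeff y *
        (χ : G → ℂ) y)) = (a * dl g⁻¹).coeff y *
        ∑ χ : IrrCharacter G, (χ : G → ℂ) 1 * (χ : G → ℂ) y by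
      rw [Finset.mul_sum]; exact Finset.sum_congr rfl fun χ _ => by ring,
      Characters.sum_degree_mul, if_neg hy, mul_zero, mul_zero]
  · simp

theorem avE_mul_idem_eq_zero {χ : IrrCharacter G} (h : subSum B (χ : G → ℂ) = 0) :
    avE B * (setIdemC {χ} : MonoidAlgebra ℂ G) = 0 := by
  classical
  refine MonoidAlgebra.ext (Finsupp.ext fun g => ?_)
  rw [coeff_eq_sum_evalFun, MonoidAlgebra.coeff_zero, Finsupp.zero_apply,
    Finset.sum_eq_zero, mul_zero]
  intro ψ _
  rw [Subring.mem_center_iff.1 (setIdemC {χ}).2 (avE B), mul_assoc, evalFun_central_mul,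
    omega_setIdemC]
  split_ifs with hψ
  · rw [Set.mem_singleton_iff] at hψ
    subst hψ
    obtain ⟨n, ρ, -, hρ⟩ := ψ.2
    have hE : IsIdempotentElem (ρ.asAlgebraHom (avE B)) := by
      rw [IsIdempotentElem, ← map_mul, avE_mul_avE]
    have htr : LinearMap.trace ℂ _ (ρ.asAlgebraHom (avE B)) = 0 := by
      rw [trace_asAlgebraHom, hρ, evalFun_avE, h, mul_zero]
    rw [(LinearMap.IsIdempotentElem.isProj_range _ hE).trace, Nat.cast_eq_zero,
      Submodule.finrank_eq_zero, LinearMap.range_eq_bot] at htr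
    rw [← hρ, ← trace_asAlgebraHom, map_mul, htr]
    simp
  · simp

/-- The dimension of the centre of `e ℂ[G] e` is the number of constituents of the permutation
character. -/
theorem finrank_heckeCtr :
    Module.finrank ℂ (heckeCtr B) = Nat.card {χ : IrrCharacter G //
      ∃ φ : G → ℂ, Cfsg.IsCharacter G φ ∧
        Cfsg.fixedPointCharacter B = (χ : G → ℂ) + φ} := by
  classical
  rw [Nat.card_congr (Equiv.subtypeEquivRight fun χ => exists_add_iff B χ),
    Nat.card_eq_fintype_card, ← Module.finrank_fintype_fun_eq_card ℂ]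
  let Φ : ({χ : IrrCharacter G // subSum B (χ : G → ℂ) ≠ 0} → ℂ) →ₗ[ℂ] heckeCtr B :=
    (∑ χ, (LinearMap.proj χ).smulRight
      (⟨_, avE_mul_ctr_mem B (setIdemC {χ.1}).2⟩ : heckeCtr B))
  have hΦ : ∀ f, (Φ f : MonoidAlgebra ℂ G) =
      ∑ χ, f χ • (avE B * (setIdemC {χ.1} : MonoidAlgebra ℂ G)) := fun f => by
    simp [Φ, LinearMap.sum_apply]
  refine (LinearEquiv.ofBijective Φ ⟨?_, ?_⟩).finrank_eq.symm
  · rw [← LinearMap.ker_eq_bot, LinearMap.ker_eq_bot']
    intro f hf
    funext ψ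
    have h1 := congrArg (fun v : heckeCtr B => evalFun (ψ.1 : G → ℂ) (v : MonoidAlgebra ℂ G)) hf
    simp only [hΦ, ZeroMemClass.coe_zero] at h1
    have h2 : ∀ χ : {χ : IrrCharacter G // subSum B (χ : G → ℂ) ≠ 0},
        evalFun (ψ.1 : G → ℂ) (avE B * (setIdemC {χ.1} : MonoidAlgebra ℂ G)) =
          if ψ = χ then (Nat.card B : ℂ)⁻¹ * subSum B (ψ.1 : G → ℂ) else 0 := fun χ => by
      rw [Subring.mem_center_iff.1 (setIdemC {χ.1}).2 (avE B), evalFun_central_mul,
        omega_setIdemC, evalFun_avE]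
      simp only [Set.mem_singleton_iff, Subtype.ext_iff]
      split_ifs <;> simp
    simp only [evalFun, MonoidAlgebra.coeff_sum, MonoidAlgebra.coeff_smul, Finsupp.finsetSum_apply,
      Finsupp.smul_apply, smul_eq_mul, Finset.sum_mul, MonoidAlgebra.coeff_zero, Finsupp.zero_apply,
      zero_mul, Finset.sum_const_zero] at h1 h2
    rw [Finset.sum_comm, Finset.sum_eq_single ψ] at h1
    · simp only [mul_assoc, ← Finset.mul_sum] at h1
      rw [h2 ψ, if_pos rfl] at h1
      rcases mul_eq_zero.1 h1 with h3 | h3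
      · exact h3
      · exact absurd h3 (mul_ne_zero (inv_ne_zero (Nat.cast_ne_zero.2 Nat.card_pos.ne')) ψ.2)
    · intro χ _ hne
      simp only [mul_assoc, ← Finset.mul_sum]
      rw [h2 χ, if_neg hne.symm, mul_zero]
    · simp
  · rintro ⟨z, hz⟩
    obtain ⟨a, ha, rfl⟩ := exists_ctr B hz
    refine ⟨fun χ => omega χ.1 ⟨a, ha⟩, Subtype.ext ?_⟩
    rw [hΦ]
    show _ = avE B * a
    have hsum : (⟨a, ha⟩ : Ctr ℂ G) =
        ∑ χ : IrrCharacter G, scalar (omega χ ⟨a, ha⟩) * setIdemC {χ} := by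
      refine ctr_ext_omega fun ψ => ?_
      simp only [map_sum, map_mul, omega_scalar, omega_setIdemC, Set.mem_singleton_iff, mul_ite,
        mul_one, mul_zero, Finset.sum_ite_eq, Finset.mem_univ, if_true]
    have hsum' : a = ((∑ χ : IrrCharacter G, scalar (omega χ ⟨a, ha⟩) * setIdemC {χ} :
        Ctr ℂ G) : MonoidAlgebra ℂ G) := congrArg Subtype.val hsum
    rw [show avE B * a = avE B * ((∑ χ : IrrCharacter G,
        scalar (omega χ ⟨a, ha⟩) * setIdemC {χ} : Ctr ℂ G) : MonoidAlgebra ℂ G) from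
        congrArg (avE B * ·) hsum', AddSubmonoidClass.coe_finsetSum, Finset.mul_sum]
    have e : ∀ χ : IrrCharacter G, avE B * ((scalar (omega χ ⟨a, ha⟩) * setIdemC {χ} : Ctr ℂ G) :
        MonoidAlgebra ℂ G) = omega χ ⟨a, ha⟩ • (avE B * (setIdemC {χ} : MonoidAlgebra ℂ G)) := by
      intro χ
      rw [Subring.coe_mul, coe_scalar, show MonoidAlgebra.single (1 : G) (omega χ ⟨a, ha⟩) =
        omega χ ⟨a, ha⟩ • (1 : MonoidAlgebra ℂ G) by
          rw [MonoidAlgebra.one_def, MonoidAlgebra.smul_single, smul_eq_mul, mul_one],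
        smul_mul_assoc, one_mul, mul_smul_comm]
    rw [Finset.sum_congr rfl fun χ _ => e χ]
    refine Finset.sum_bij_ne_zero (fun χ _ _ => χ.1) (fun _ _ _ => Finset.mem_univ _)
      (fun _ _ _ _ _ _ h => Subtype.ext h) (fun χ _ hne => ?_) fun _ _ _ => rfl
    refine ⟨⟨χ, fun h0 => hne ?_⟩, Finset.mem_univ _, hne, rfl⟩
    rw [avE_mul_idem_eq_zero B h0, smul_zero]

end CfsgLib.HeckeCentre
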