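import Cfsg.Agent.HeckeCentre.Ops

/-!
# The dimension of the centre of a generic Hecke algebra

For a real parameter `t > 0` the centre is the range of the Casimir operator and the kernel of the
commutators with the generators, so its dimension is locally constant in `t`; at `t = 1` it is the
number of conjugacy classes.
-/

set_option autoImplicit false
set_option linter.unusedSectionVars false

namespace CfsgLib.HeckeCentre

variable {β : Type*} [Fintype β] {M : CoxeterMatrix β} [DecidableEq M.Group] [Fintype M.Group]

/-- The commutators with the generators. -/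
noncomputable def commOps (t : ℂ) : (M.Group → ℂ) →ₗ[ℂ] (β → M.Group → ℂ) :=
  LinearMap.pi fun i => opL t i - opR t i

theorem mem_ker_commOps {t : ℂ} {f : M.Group → ℂ} :
    f ∈ LinearMap.ker (commOps t) ↔ ∀ i, opL t i f = opR t i f := by
  rw [LinearMap.mem_ker, funext_iff]
  exact forall_congr' fun i => sub_eq_zero

theorem range_cas_le (hE : Exch M) (t : ℂ) :
    LinearMap.range (cas (M := M) t) ≤ LinearMap.ker (commOps t) := by
  rintro _ ⟨f, rfl⟩
  exact mem_ker_commOps.2 fun i => opL_cas hE i f

theorem range_cas_eq (hE : Exch M) {r : ℝ} (hr : 0 < r) :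
    LinearMap.range (cas (M := M) (r : ℂ)) = LinearMap.ker (commOps (r : ℂ)) := by
  refine Submodule.eq_of_le_of_finrank_le (range_cas_le hE _) ?_
  refine LinearMap.finrank_le_finrank_of_injective
    (f := ((cas (M := M) (r : ℂ)).comp (LinearMap.ker (commOps (r : ℂ))).subtype).codRestrict _
      fun v => LinearMap.mem_range_self _ _) ?_
  rw [← LinearMap.ker_eq_bot, LinearMap.ker_eq_bot']
  intro z hz
  exact Subtype.ext (cas_injective_on_ker hE hr (mem_ker_commOps.1 z.2) (congrArg Subtype.val hz))

/-! ### Continuity in the parameter -/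

theorem continuous_opL {g : ℝ → M.Group → ℂ} (hg : Continuous g) (i : β) :
    Continuous fun t : ℝ => opL (t : ℂ) i (g t) := by
  refine continuous_pi fun w => ?_
  simp only [opL_apply]
  split_ifs <;> fun_prop

theorem continuous_opR {g : ℝ → M.Group → ℂ} (hg : Continuous g) (i : β) :
    Continuous fun t : ℝ => opR (t : ℂ) i (g t) := by
  refine continuous_pi fun w => ?_
  simp only [opR_apply]
  split_ifs <;> fun_prop

theorem continuous_wordL {g : ℝ → M.Group → ℂ} (hg : Continuous g) (ω : List β) :
    Continuous fun t : ℝ => wordL (t : ℂ) ω (g t) := by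
  induction ω with
  | nil => simpa using hg
  | cons i ω ih => simpa only [wordL_cons] using continuous_opL ih i

theorem continuous_wordR {g : ℝ → M.Group → ℂ} (hg : Continuous g) (ω : List β) :
    Continuous fun t : ℝ => wordR (t : ℂ) ω (g t) := by
  induction ω with
  | nil => simpa using hg
  | cons i ω ih => simpa only [wordR_cons] using continuous_opR ih i

theorem continuous_cas (f : M.Group → ℂ) : Continuous fun t : ℝ => cas (t : ℂ) f := by
  simp only [cas_apply]
  exact continuous_finsetSum _ fun w _ =>
    (Complex.continuous_ofReal.pow _).smul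
      (continuous_wordL (continuous_wordR continuous_const _) _)

theorem continuous_commOps (f : M.Group → ℂ) : Continuous fun t : ℝ => commOps (t : ℂ) f :=
  continuous_pi fun i =>
    (continuous_opL continuous_const i).sub (continuous_opR continuous_const i)

/-- The rank of a continuous family of linear maps is lower semicontinuous. -/
theorem eventually_rank_ge {X V W : Type*} [TopologicalSpace X] [AddCommGroup V] [Module ℂ V]
    [NormedAddCommGroup W] [NormedSpace ℂ W] [FiniteDimensional ℂ W] (A : X → V →ₗ[ℂ] W)
    (hA : ∀ v, Continuous fun x => A x v) (x₀ : X) :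
    ∀ᶠ x in nhds x₀, Module.finrank ℂ (LinearMap.range (A x₀)) ≤
      Module.finrank ℂ (LinearMap.range (A x)) := by
  set b := Module.finBasis ℂ (LinearMap.range (A x₀))
  choose v hv using fun i => LinearMap.mem_range.1 (b i).2
  have h0 : LinearIndependent ℂ fun i => A x₀ (v i) := by
    have := b.linearIndependent.map' (LinearMap.range (A x₀)).subtype (Submodule.ker_subtype _)
    simp only [hv]
    exact this
  have hc : Continuous fun x i => A x (v i) := continuous_pi fun i => hA _
  refine Filter.eventually_of_mem ((isOpen_setOfPred_linearIndependent.preimage hc).mem_nhds h0)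
    fun x hx => ?_
  have h1 : LinearIndependent ℂ fun i =>
      (⟨A x (v i), LinearMap.mem_range_self _ _⟩ : LinearMap.range (A x)) :=
    LinearIndependent.of_comp (LinearMap.range (A x)).subtype hx
  simpa using h1.fintype_card_le_finrank

/-- The dimension of the centre does not depend on the parameter. -/
theorem finrank_ker_eq (hE : Exch M) {r s : ℝ} (hr : 0 < r) (hs : 0 < s) :
    Module.finrank ℂ (LinearMap.ker (commOps (M := M) (r : ℂ))) =
      Module.finrank ℂ (LinearMap.ker (commOps (M := M) (s : ℂ))) := by
  let d : Set.Ioi (0 : ℝ) → ℕ := fun t =>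
    Module.finrank ℂ (LinearMap.ker (commOps (M := M) ((t : ℝ) : ℂ)))
  have hloc : IsLocallyConstant d := by
    rw [IsLocallyConstant.iff_eventually_eq]
    intro t₀
    have hA := eventually_rank_ge (fun t : Set.Ioi (0 : ℝ) => cas (M := M) ((t : ℝ) : ℂ))
      (fun v => (continuous_cas v).comp continuous_subtype_val) t₀
    have hB := eventually_rank_ge (fun t : Set.Ioi (0 : ℝ) => commOps (M := M) ((t : ℝ) : ℂ))
      (fun v => (continuous_commOps v).comp continuous_subtype_val) t₀
    filter_upwards [hA, hB] with t h1 h2
    rw [range_cas_eq hE t.2, range_cas_eq hE t₀.2] at h1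
    have h3 := (commOps (M := M) ((t : ℝ) : ℂ)).finrank_range_add_finrank_ker
    have h4 := (commOps (M := M) ((t₀ : ℝ) : ℂ)).finrank_range_add_finrank_ker
    simp only [d]
    omega
  have : PreconnectedSpace (Set.Ioi (0 : ℝ)) := Subtype.preconnectedSpace isPreconnected_Ioi
  exact hloc.apply_eq_of_isPreconnected (s := Set.univ) isPreconnected_univ
    (x := (⟨r, hr⟩ : Set.Ioi (0 : ℝ))) (y := ⟨s, hs⟩) (Set.mem_univ _) (Set.mem_univ _)

/-! ### The group algebra of the Coxeter group -/

theorem opL_one_apply (i : β) (f : M.Group → ℂ) (w : M.Group) :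
    opL 1 i f w = f (M.simple i * w) := by
  rw [opL_apply]
  split_ifs <;> ring

theorem opR_one_apply (i : β) (f : M.Group → ℂ) (w : M.Group) :
    opR 1 i f w = f (w * M.simple i) := by
  rw [opR_apply]
  split_ifs <;> ring

theorem mem_ker_commOps_one {f : M.Group → ℂ} :
    f ∈ LinearMap.ker (commOps (1 : ℂ)) ↔ ∀ x y : M.Group, IsConj x y → f x = f y := by
  rw [mem_ker_commOps]
  simp only [funext_iff, opL_one_apply, opR_one_apply]
  constructor
  · intro h x y hxy
    obtain ⟨c, rfl⟩ := isConj_iff.1 hxy
    induction c using M.toCoxeterSystem.simple_induction_left generalizing x with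
    | one => simp
    | mul_simple_left w i ih =>
      rw [ih x (isConj_iff.2 ⟨w, rfl⟩), CoxeterMatrix.toCoxeterSystem_simple, mul_inv_rev,
        inv_simple, show ∀ a b c d e : M.Group, a * b * c * (d * e) = a * (b * c * d * e) from
          fun a b c d e => by group, h, mul_assoc (w * x * w⁻¹), simple_sq, mul_one]
  · intro h i w
    refine h _ _ (isConj_iff.2 ⟨M.simple i, ?_⟩)
    rw [← mul_assoc, simple_sq, one_mul, inv_simple]

theorem finrank_ker_one :
    Module.finrank ℂ (LinearMap.ker (commOps (M := M) (1 : ℂ))) =
      Nat.card (ConjClasses M.Group) := by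
  classical
  rw [Nat.card_eq_fintype_card, ← Module.finrank_fintype_fun_eq_card ℂ (η := ConjClasses M.Group)]
  refine LinearEquiv.finrank_eq
    { toFun := fun f c => Quotient.liftOn c (f : M.Group → ℂ) (mem_ker_commOps_one.1 f.2)
      map_add' := fun f g => funext fun c => by induction c using Quotient.ind; rfl
      map_smul' := fun a f => funext fun c => by induction c using Quotient.ind; rfl
      invFun := fun φ => ⟨fun w => φ (ConjClasses.mk w),
        mem_ker_commOps_one.2 fun x y hxy => by rw [ConjClasses.mk_eq_mk_iff_isConj.2 hxy]⟩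
      left_inv := fun f => rfl
      right_inv := fun φ => funext fun c => by induction c using Quotient.ind; rfl }

/-- The centre of the Hecke algebra has as many dimensions as the group has classes. -/
theorem finrank_ker_commOps (hE : Exch M) {r : ℝ} (hr : 0 < r) :
    Module.finrank ℂ (LinearMap.ker (commOps (M := M) (r : ℂ))) =
      Nat.card (ConjClasses M.Group) := by
  rw [finrank_ker_eq hE hr one_pos, Complex.ofReal_one, finrank_ker_one]

end CfsgLib.HeckeCentre
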