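import Cfsg.Agent.HeckeCentre.Abstract
import Cfsg.Agent.HeckeCentre.Generic
import Cfsg.Agent.Chevalley.Bruhat
import Cfsg.Agent.Chevalley.BNPair
import Cfsg.Agent.ChevSteinberg.WeylCosets

/-!
# The Hecke algebra of a finite Chevalley group and its Borel subgroup

Bi-invariant elements of the group algebra are the functions on the Weyl group; multiplication by
the double coset of a fundamental reflection is the generator of the Hecke algebra at `t = q`.
-/

set_option autoImplicit false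
set_option linter.unusedSectionVars false

namespace CfsgLib.HeckeCentre

open Cfsg Cfsg.Lie CfsgLib CfsgLib.Chevalley
open scoped MatrixGroups

variable {D : ChevalleyDatum} {C : Weyl.Cert D.rank} {M : CoxeterMatrix (Fin D.rank)}
  {R : Weyl.RootTable}

local notation "ℓ" => CoxeterSystem.length (CoxeterMatrix.toCoxeterSystem M)

theorem exch (h : Weyl.RootGood C M R) : Exch M := by
  intro i j w _ h2 h3
  have hl := h.length_mul_simple_lt_iff w j
  have hl' := h.length_mul_simple_lt_iff (M.simple i * w) j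
  have hpos : Weyl.PosIdx (h.rootPerm w (h.simpleRoot j)) := by
    by_contra hn
    have := hl.2 hn
    omega
  have hneg := hl'.1 (by omega)
  rw [map_mul, Equiv.Perm.mul_apply] at hneg
  have e : h.rootPerm w (h.simpleRoot j) = h.simpleRoot i := by
    by_contra hne
    exact hneg (h.pos_simple_apply hne hpos)
  exact (ChevSteinberg.mul_simple_eq h e).symm

variable {F : Type*} [Field F] (hW : GoodWeyl D) (h : Weyl.RootGood C M R)

/-- The Borel subgroup inside the group. -/
abbrev bSub (D : ChevalleyDatum) (F : Type*) [Field F] : Subgroup ↥(D.group F) :=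
  (D.borelSubgroup F).subgroupOf (D.group F)

/-- The Weyl group element of the double coset of an element. -/
noncomputable def cellOf (g : ↥(D.group F)) : M.Group :=
  (exists_mem_cell hW h g.2).choose

theorem mem_cellOf (g : ↥(D.group F)) : (g : GL D.Idx F) ∈ cell hW h F (cellOf hW h g) :=
  (exists_mem_cell hW h g.2).choose_spec

theorem cellOf_eq {g : ↥(D.group F)} {w : M.Group} (hg : (g : GL D.Idx F) ∈ cell hW h F w) :
    cellOf hW h g = w :=
  cell_eq_of_mem hW h (mem_cellOf hW h g) hg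

/-- The chosen representative inside the group. -/
noncomputable def rep (w : M.Group) : ↥(D.group F) :=
  ⟨nW hW h F w, monomial_le_group hW (nW_mem hW h w)⟩

theorem cellOf_rep (w : M.Group) : cellOf (F := F) hW h (rep hW h w) = w :=
  cellOf_eq hW h (nW_mem_cell hW h w)

theorem cellOf_bSub_mul {b : ↥(D.group F)} (hb : b ∈ bSub D F) (g : ↥(D.group F)) :
    cellOf hW h (b * g) = cellOf hW h g :=
  cellOf_eq hW h (borel_mul_mem_cell hW h hb (mem_cellOf hW h g))

theorem cellOf_mul_bSub {b : ↥(D.group F)} (hb : b ∈ bSub D F) (g : ↥(D.group F)) :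
    cellOf hW h (g * b) = cellOf hW h g :=
  cellOf_eq hW h (cell_mul_borel_mem hW h (mem_cellOf hW h g) hb)

theorem cellOf_inv (g : ↥(D.group F)) : cellOf hW h g⁻¹ = (cellOf hW h g)⁻¹ := by
  refine cellOf_eq hW h ?_
  obtain ⟨b, hb, b', hb', e⟩ := mem_cellOf hW h g
  have h1 : (nW hW h F (cellOf hW h g))⁻¹ ∈ cell hW h F (cellOf hW h g)⁻¹ := by
    have := mem_cell_self hW h (⟨nW hW h F (cellOf hW h g), nW_mem hW h _⟩⁻¹ :
      ↥(D.monomialSubgroup F))
    rwa [map_inv, weylHom_nW] at this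
  rw [Subgroup.coe_inv, ← e, mul_inv_rev, mul_inv_rev, ← mul_assoc]
  exact mul_mem_cell hW h (inv_mem hb') h1 (inv_mem hb)

theorem exists_eq_rep (g : ↥(D.group F)) :
    ∃ b ∈ bSub D F, ∃ b' ∈ bSub D F, g = b * rep hW h (cellOf hW h g) * b' := by
  obtain ⟨b, hb, b', hb', e⟩ := mem_cellOf hW h g
  exact ⟨⟨b, borel_le_group hW hb⟩, hb, ⟨b', borel_le_group hW hb'⟩, hb', Subtype.ext e.symm⟩

/-- `x_α(a) n_α b`. -/
noncomputable def sPt (i : Fin D.rank) (p : F × ↥(bSub D F)) : ↥(D.group F) :=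
  (⟨X hW.good (pRoot hW i) p.1, X_mem_group _ _ _⟩ * nG hW F i) * p.2

theorem coe_sPt (i : Fin D.rank) (p : F × ↥(bSub D F)) :
    ((sPt hW i p : ↥(D.group F)) : GL D.Idx F) =
      X hW.good (pRoot hW i) p.1 * nR hW i * ((p.2 : ↥(D.group F)) : GL D.Idx F) := rfl

theorem sPt_injective (i : Fin D.rank) : Function.Injective (sPt (F := F) hW i) := by
  rintro ⟨a, b⟩ ⟨a', b'⟩ e
  have e' := congrArg (fun g : ↥(D.group F) => (g : GL D.Idx F)) e
  simp only [coe_sPt] at e'
  have hm : (nR hW i)⁻¹ * X hW.good (pRoot hW i) (a - a') * nR hW i ∈ D.borelSubgroup F := by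
    rw [show (nR hW i)⁻¹ * X hW.good (pRoot hW i) (a - a') * nR hW i =
        ((b' : ↥(D.group F)) : GL D.Idx F) * ((b : ↥(D.group F)) : GL D.Idx F)⁻¹ by
      rw [sub_eq_neg_add, ← X_mul, ← X_inv]
      calc (nR hW i)⁻¹ * ((X hW.good (pRoot hW i) a')⁻¹ * X hW.good (pRoot hW i) a) * nR hW i
          = (nR hW i)⁻¹ * (X hW.good (pRoot hW i) a')⁻¹ *
              (X hW.good (pRoot hW i) a * nR hW i * ((b : ↥(D.group F)) : GL D.Idx F)) *
              ((b : ↥(D.group F)) : GL D.Idx F)⁻¹ := by group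
        _ = _ := by rw [e']; group]
    exact mul_mem b'.2 (inv_mem b.2)
  obtain ⟨k, hk, ek⟩ := exists_nR_inv_eq (F := F) hW i
  have hneg : X hW.good (pRoot hW i).rev (-(a - a')) ∈ D.borelSubgroup F := by
    have e2 : nR hW i * X hW.good (pRoot hW i) (a - a') * (nR hW i)⁻¹ =
        X hW.good (pRoot hW i).rev (-(a - a')) := by
      rw [nR_conj, hW.wPerm_pRoot, hW.eta_pRoot, Int.cast_neg, Int.cast_one, neg_one_mul]
    rw [← e2, show nR hW i * X hW.good (pRoot hW i) (a - a') * (nR hW i)⁻¹ =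
      (nR hW i * nR hW i) * ((nR hW i)⁻¹ * X hW.good (pRoot hW i) (a - a') * nR hW i) *
        (nR hW i * nR hW i)⁻¹ by group]
    exact mul_mem (mul_mem (diag_le_borel D (nR_mul_self_mem_diag hW i)) hm)
      (inv_mem (diag_le_borel D (nR_mul_self_mem_diag hW i)))
  have h0 : X hW.good (pRoot hW i).rev (-(a - a')) ∈
      D.borelSubgroup F ⊓ D.negUnipotent F :=
    Subgroup.mem_inf.2 ⟨hneg, by
      rw [negUnipotent_eq_rootGen hW.good]
      exact X_mem_rootGen _ (pRoot_rev_neg hW i) _⟩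
  rw [borel_inf_neg hW, Subgroup.mem_bot] at h0
  have ha : a = a' := by
    by_contra hne
    have hne' : -(a - a') ≠ 0 := neg_ne_zero.2 (sub_ne_zero.2 hne)
    exact hne' (X_injective hW.good _ (h0.trans (X_zero hW.good _).symm))
  subst ha
  exact Prod.ext rfl (Subtype.ext (mul_left_cancel e))

theorem cellOf_sPt (i : Fin D.rank) (p : F × ↥(bSub D F)) :
    cellOf hW h (sPt hW i p) = M.simple i :=
  cellOf_eq hW h (mul_mem_cell hW h (X_pRoot_mem_borel hW i p.1) (nR_mem_cell hW h i) p.2.2)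

theorem exists_sPt (i : Fin D.rank) {g : ↥(D.group F)} (hg : cellOf hW h g = M.simple i) :
    ∃ p : F × ↥(bSub D F), sPt hW i p = g := by
  obtain ⟨b, hb, b', hb', e⟩ := hg ▸ mem_cellOf hW h g
  obtain ⟨k, hk, ek⟩ : ∃ k ∈ D.diagonalSubgroup F, nR hW i = nW hW h F (M.simple i) * k := by
    have := exists_eq_nW_mul hW h ⟨nR hW i, nR_mem_monomial (F := F) hW i⟩
    rwa [weylHom_nR] at this
  obtain ⟨t, c, ec, -, hc⟩ := exists_borel_split hW i (inv_mem hb)
  have hm : ((nR hW i)⁻¹ * c * nR hW i)⁻¹ * (k⁻¹ * b') ∈ D.borelSubgroup F :=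
    mul_mem (inv_mem hc) (mul_mem (inv_mem (diag_le_borel D hk)) hb')
  refine ⟨(-t, ⟨⟨_, borel_le_group hW hm⟩, hm⟩), Subtype.ext ?_⟩
  rw [coe_sPt, ← e, show nW hW h F (M.simple i) = nR hW i * k⁻¹ by rw [ek]; group,
    show b = (X hW.good (pRoot hW i) t)⁻¹ * c⁻¹ by rw [← mul_inv_rev, ← ec, inv_inv], ← X_inv]
  group

theorem cellOf_nG_inv_mul (i : Fin D.rank) (g : ↥(D.group F)) :
    cellOf hW h ((nG hW F i)⁻¹ * g) = cellOf hW h (nG hW F i * g) := by
  obtain ⟨k, hk, ek⟩ := exists_nR_inv_eq (F := F) hW i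
  have e : (nG hW F i)⁻¹ = (⟨k, diag_le_group hW hk⟩ : ↥(D.group F)) * nG hW F i :=
    Subtype.ext ek
  rw [e, mul_assoc, cellOf_bSub_mul hW h (diag_le_borel D hk)]

variable [Fintype F]

/-- The sum over `x_α(a)`: the generator of the Hecke algebra. -/
theorem sum_cellOf_nR (i : Fin D.rank) (f : M.Group → ℂ) (w : M.Group) :
    ∑ a : F, f (cellOf hW h ((nG hW F i)⁻¹ *
      ((⟨X hW.good (pRoot hW i) a, X_mem_group _ _ _⟩ : ↥(D.group F)) * rep hW h w))) =
      opL (Fintype.card F : ℂ) i f w := by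
  classical
  simp only [cellOf_nG_inv_mul hW h]
  rw [opL_apply]
  split_ifs with hl
  · have e : ∀ a : F, cellOf hW h (nG hW F i *
        ((⟨X hW.good (pRoot hW i) a, X_mem_group _ _ _⟩ : ↥(D.group F)) * rep hW h w)) =
        M.simple i * w := fun a => cellOf_eq hW h (by
      show nR hW i * (X hW.good (pRoot hW i) a * nW hW h F w) ∈ _
      rw [← mul_assoc]
      exact nR_mul_nW_up hW h ((goesUp_iff hW h i w).2 hl) (X_pRoot_mem_borel hW i a))
    simp only [e, Finset.sum_const, Finset.card_univ, nsmul_eq_mul]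
  · have hup : GoesUp hW h i (M.simple i * w) :=
      not_goesUp_simple_mul hW h i w fun hc => hl ((goesUp_iff hW h i w).1 hc)
    obtain ⟨k, hk, ek⟩ := exists_nR_mul_nW (F := F) hW h i w
    rw [← Finset.add_sum_erase _ _ (Finset.mem_univ (0 : F))]
    have e0 : cellOf hW h (nG hW F i *
        ((⟨X hW.good (pRoot hW i) (0 : F), X_mem_group _ _ _⟩ : ↥(D.group F)) * rep hW h w)) =
        M.simple i * w := cellOf_eq hW h (by
      show nR hW i * (X hW.good (pRoot hW i) (0 : F) * nW hW h F w) ∈ _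
      rw [X_zero, one_mul, ek]
      exact cell_mul_borel_mem hW h (nW_mem_cell hW h _) (diag_le_borel D hk))
    have e : ∀ a ∈ (Finset.univ : Finset F).erase 0, f (cellOf hW h (nG hW F i *
        ((⟨X hW.good (pRoot hW i) a, X_mem_group _ _ _⟩ : ↥(D.group F)) * rep hW h w))) = f w := by
      intro a ha
      refine congrArg f (cellOf_eq hW h ?_)
      show nR hW i * (X hW.good (pRoot hW i) a * nW hW h F w) ∈ _
      have e1 := nR_conj_X_pRoot hW i (Units.mk0 a (Finset.ne_of_mem_erase ha))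
      rw [Units.val_mk0] at e1
      rw [show nR hW i * (X hW.good (pRoot hW i) a * nW hW h F w) =
        nR hW i * X hW.good (pRoot hW i) a * (nR hW i)⁻¹ * (nR hW i * nW hW h F w) by group, e1, ek]
      set y : F := -(((Units.mk0 a (Finset.ne_of_mem_erase ha))⁻¹ : Fˣ) : F)
      have h2 := nR_mul_nW_up hW h hup (X_pRoot_mem_borel hW i y)
      rw [simple_mul_cancel] at h2
      rw [show ∀ x t n x' m k : GL D.Idx F, x * t * n * x' * (m * k) = x * t * (n * x' * m) * k
        from fun x t n x' m k => by group]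
      exact mul_mem_cell hW h (mul_mem (X_pRoot_mem_borel hW i y)
        (diag_le_borel D (hT_mem_diagonal hW _ _))) h2 (diag_le_borel D hk)
    rw [Finset.sum_congr rfl e, e0, Finset.sum_const, Finset.card_erase_of_mem (Finset.mem_univ _),
      Finset.card_univ, nsmul_eq_mul, Nat.cast_sub Fintype.card_pos, Nat.cast_one]

variable [Fintype ↥(D.group F)] [Fintype M.Group] [DecidableEq M.Group] [Fintype ↥(bSub D F)]

/-- The element of the group algebra of a function on the Weyl group. -/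
noncomputable def ofFun : (M.Group → ℂ) →ₗ[ℂ] MonoidAlgebra ℂ ↥(D.group F) :=
  ∑ g : ↥(D.group F), (LinearMap.proj (cellOf hW h g)).smulRight (dl g)

theorem coeff_ofFun (f : M.Group → ℂ) (g : ↥(D.group F)) :
    (ofFun hW h f).coeff g = f (cellOf hW h g) := by
  classical
  simp [ofFun, LinearMap.sum_apply, MonoidAlgebra.coeff_sum, Finsupp.finsetSum_apply,
    Finsupp.single_apply]

theorem ofFun_injective : Function.Injective (ofFun (F := F) hW h) := fun f f' e =>
  funext fun w => by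
    have := congrArg (fun u : MonoidAlgebra ℂ ↥(D.group F) => u.coeff (rep hW h w)) e
    simpa only [coeff_ofFun, cellOf_rep] using this

theorem avE_mul_ofFun (f : M.Group → ℂ) :
    avE (bSub D F) * ofFun hW h f = ofFun hW h f := by
  refine MonoidAlgebra.ext (Finsupp.ext fun g => ?_)
  rw [avE, Finset.sum_mul, MonoidAlgebra.coeff_sum, Finsupp.finsetSum_apply]
  simp only [MonoidAlgebra.coeff_single_mul_apply, coeff_ofFun,
    fun b : ↥(bSub D F) => cellOf_bSub_mul hW h (inv_mem b.2) g]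
  rw [Finset.sum_const, Finset.card_univ, nsmul_eq_mul, ← Nat.card_eq_fintype_card, ← mul_assoc,
    mul_inv_cancel₀ (Nat.cast_ne_zero.2 Nat.card_pos.ne'), one_mul]

theorem ofFun_mul_avE (f : M.Group → ℂ) :
    ofFun hW h f * avE (bSub D F) = ofFun hW h f := by
  refine MonoidAlgebra.ext (Finsupp.ext fun g => ?_)
  rw [avE, Finset.mul_sum, MonoidAlgebra.coeff_sum, Finsupp.finsetSum_apply]
  simp only [MonoidAlgebra.coeff_mul_single_apply, coeff_ofFun,
    fun b : ↥(bSub D F) => cellOf_mul_bSub hW h (inv_mem b.2) g]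
  rw [Finset.sum_const, Finset.card_univ, nsmul_eq_mul, ← Nat.card_eq_fintype_card, mul_comm (f _),
    ← mul_assoc, mul_inv_cancel₀ (Nat.cast_ne_zero.2 Nat.card_pos.ne'), one_mul]

/-- The sum of the double coset of a fundamental reflection. -/
noncomputable def gen (i : Fin D.rank) : MonoidAlgebra ℂ ↥(D.group F) :=
  ofFun hW h (Pi.single (M.simple i) 1)

theorem sum_single_cellOf (i : Fin D.rank) (φ : ↥(D.group F) → ℂ) :
    ∑ x, (Pi.single (M.simple i) (1 : ℂ) : M.Group → ℂ) (cellOf hW h x) * φ x =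
      ∑ p : F × ↥(bSub D F), φ (sPt hW i p) := by
  classical
  rw [Finset.sum_congr rfl fun x _ => show
    (Pi.single (M.simple i) (1 : ℂ) : M.Group → ℂ) (cellOf hW h x) * φ x =
      if cellOf hW h x = M.simple i then φ x else 0 by
    rw [Pi.single_apply]; split_ifs <;> simp, ← Finset.sum_filter]
  symm
  refine Finset.sum_bij (fun p _ => sPt hW i p)
    (fun p _ => Finset.mem_filter.2 ⟨Finset.mem_univ _, cellOf_sPt hW h i p⟩)
    (fun p _ p' _ e => sPt_injective hW i e) (fun g hg => ?_) fun p _ => rfl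
  obtain ⟨p, e⟩ := exists_sPt hW h i (Finset.mem_filter.1 hg).2
  exact ⟨p, Finset.mem_univ _, e⟩

theorem sum_cellOf_inv_mul (i : Fin D.rank) (f : M.Group → ℂ) (g : ↥(D.group F)) :
    ∑ x, (Pi.single (M.simple i) (1 : ℂ) : M.Group → ℂ) (cellOf hW h x) *
        f (cellOf hW h (x⁻¹ * g)) =
      (Nat.card ↥(bSub D F) : ℂ) * opL (Fintype.card F : ℂ) i f (cellOf hW h g) := by
  obtain ⟨b, hb, b', hb', e⟩ := exists_eq_rep hW h g
  have h1 : ∀ x, f (cellOf hW h ((b * x)⁻¹ * g)) =
      f (cellOf hW h (x⁻¹ * rep hW h (cellOf hW h g))) := fun x => by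
    refine congrArg f ?_
    conv_lhs => rw [e]
    rw [show (b * x)⁻¹ * (b * rep hW h (cellOf hW h g) * b') =
      x⁻¹ * rep hW h (cellOf hW h g) * b' by group, cellOf_mul_bSub hW h hb']
  rw [← Equiv.sum_comp (Equiv.mulLeft b)]
  simp only [Equiv.coe_mulLeft, h1, cellOf_bSub_mul hW h hb]
  rw [sum_single_cellOf hW h i, Fintype.sum_prod_type_right]
  have h2 : ∀ (c : ↥(bSub D F)) (a : F), f (cellOf hW h ((sPt hW i (a, c))⁻¹ *
      rep hW h (cellOf hW h g))) = f (cellOf hW h ((nG hW F i)⁻¹ *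
        ((⟨X hW.good (pRoot hW i) (-a), X_mem_group _ _ _⟩ : ↥(D.group F)) *
          rep hW h (cellOf hW h g)))) := by
    intro c a
    refine congrArg f ?_
    rw [sPt, mul_inv_rev, mul_assoc, cellOf_bSub_mul hW h (inv_mem c.2), mul_inv_rev, mul_assoc]
    refine congrArg (cellOf hW h) (Subtype.ext ?_)
    show (nR hW i)⁻¹ * ((X hW.good (pRoot hW i) a)⁻¹ * _) = _
    rw [X_inv]
    rfl
  simp only [h2]
  have h3 : ∀ φ : F → ℂ, ∑ a : F, φ (-a) = ∑ a : F, φ a := fun φ =>
    Fintype.sum_equiv (Equiv.neg F) _ _ fun a => rfl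
  rw [h3 fun a => f (cellOf hW h ((nG hW F i)⁻¹ *
    ((⟨X hW.good (pRoot hW i) a, X_mem_group _ _ _⟩ : ↥(D.group F)) *
      rep hW h (cellOf hW h g)))), sum_cellOf_nR hW h i, Finset.sum_const, Finset.card_univ,
    nsmul_eq_mul, Nat.card_eq_fintype_card]

theorem gen_mul (i : Fin D.rank) (f : M.Group → ℂ) :
    gen (F := F) hW h i * ofFun hW h f =
      (Nat.card ↥(bSub D F) : ℂ) • ofFun hW h (opL (Fintype.card F : ℂ) i f) := by
  refine MonoidAlgebra.ext (Finsupp.ext fun g => ?_)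
  rw [MonoidAlgebra.coeff_smul, Finsupp.smul_apply, smul_eq_mul, coeff_ofFun,
    ← sum_cellOf_inv_mul hW h i f g]
  conv_lhs => rw [gen, ofFun, LinearMap.sum_apply, Finset.sum_mul, MonoidAlgebra.coeff_sum,
    Finsupp.finsetSum_apply]
  refine Finset.sum_congr rfl fun x _ => ?_
  rw [LinearMap.smulRight_apply, LinearMap.proj_apply, smul_mul_assoc, MonoidAlgebra.coeff_smul,
    Finsupp.smul_apply, smul_eq_mul, MonoidAlgebra.coeff_single_mul_apply, one_mul]
  exact congrArg _ (coeff_ofFun hW h f _)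

theorem mul_gen (i : Fin D.rank) (f : M.Group → ℂ) :
    ofFun hW h f * gen (F := F) hW h i =
      (Nat.card ↥(bSub D F) : ℂ) • ofFun hW h (opR (Fintype.card F : ℂ) i f) := by
  refine MonoidAlgebra.ext (Finsupp.ext fun g => ?_)
  rw [MonoidAlgebra.coeff_smul, Finsupp.smul_apply, smul_eq_mul, coeff_ofFun, opR_eq_flip,
    flipArg_apply, ← cellOf_inv, ← sum_cellOf_inv_mul hW h i _ g⁻¹]
  conv_lhs =>
    rw [gen]
    arg 1; arg 1; arg 2; rw [ofFun, LinearMap.sum_apply]
  rw [Finset.mul_sum, MonoidAlgebra.coeff_sum, Finsupp.finsetSum_apply,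
    ← Equiv.sum_comp (Equiv.inv ↥(D.group F))]
  refine Finset.sum_congr rfl fun x _ => ?_
  rw [Equiv.inv_apply, LinearMap.smulRight_apply, LinearMap.proj_apply, mul_smul_comm,
    MonoidAlgebra.coeff_smul, Finsupp.smul_apply, smul_eq_mul,
    MonoidAlgebra.coeff_mul_single_apply, mul_one, coeff_ofFun, flipArg_apply, ← cellOf_inv,
    mul_inv_rev, inv_inv]
  congr 1
  rw [cellOf_inv]
  simp [Pi.single_apply, inv_eq_iff_eq_inv, inv_simple]

/-- The element of a cell between two averaging idempotents. -/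
noncomputable def eNe (w : M.Group) : MonoidAlgebra ℂ ↥(D.group F) :=
  avE (bSub D F) * dl (rep hW h w) * avE (bSub D F)

theorem avE_dl_avE (x : ↥(D.group F)) :
    avE (bSub D F) * dl x * avE (bSub D F) = eNe hW h (cellOf hW h x) := by
  obtain ⟨b, hb, b', hb', e⟩ := exists_eq_rep hW h x
  rw [eNe]
  conv_lhs => rw [e, ← dl_mul, ← dl_mul]
  rw [← mul_assoc (avE _) _ (dl b'), ← mul_assoc (avE _) (dl b), avE_mul_mem _ hb, mul_assoc _
    (dl b'), mem_mul_avE _ hb']

theorem eNe_mul_eNe {i : Fin D.rank} {w : M.Group} (hw : ℓ (M.simple i * w) = ℓ w + 1) :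
    eNe (F := F) hW h (M.simple i) * eNe hW h w = eNe hW h (M.simple i * w) := by
  obtain ⟨k, hk, ek⟩ : ∃ k ∈ D.diagonalSubgroup F, nR hW i = nW hW h F (M.simple i) * k := by
    have := exists_eq_nW_mul hW h ⟨nR hW i, nR_mem_monomial (F := F) hW i⟩
    rwa [weylHom_nR] at this
  have key : ∀ b : ↥(bSub D F),
      cellOf hW h (rep hW h (M.simple i) * (b : ↥(D.group F)) * rep hW h w) = M.simple i * w := by
    intro b
    refine cellOf_eq hW h ?_
    show nW hW h F (M.simple i) * ((b : ↥(D.group F)) : GL D.Idx F) * nW hW h F w ∈ _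
    rw [show nW hW h F (M.simple i) = nR hW i * k⁻¹ by rw [ek]; group, mul_assoc (nR hW i) k⁻¹]
    exact nR_mul_nW_up hW h ((goesUp_iff hW h i w).2 hw)
      (mul_mem (inv_mem (diag_le_borel D hk)) b.2)
  have e : eNe (F := F) hW h (M.simple i) * eNe hW h w =
      ∑ b : ↥(bSub D F), (Nat.card ↥(bSub D F) : ℂ)⁻¹ • (avE (bSub D F) *
        dl (rep hW h (M.simple i) * (b : ↥(D.group F)) * rep hW h w) * avE (bSub D F)) := by
    rw [eNe, eNe, show ∀ e x y : MonoidAlgebra ℂ ↥(D.group F),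
      e * x * e * (e * y * e) = e * x * (e * e) * y * e from fun e x y => by simp only [mul_assoc],
      avE_mul_avE]
    conv_lhs => arg 1; arg 1; arg 2; rw [avE]
    rw [Finset.mul_sum, Finset.sum_mul, Finset.sum_mul]
    refine Finset.sum_congr rfl fun b _ => ?_
    rw [show MonoidAlgebra.single (b : ↥(D.group F)) (Nat.card ↥(bSub D F) : ℂ)⁻¹ =
      (Nat.card ↥(bSub D F) : ℂ)⁻¹ • dl (b : ↥(D.group F)) by
      rw [MonoidAlgebra.smul_single, smul_eq_mul, mul_one], mul_smul_comm, smul_mul_assoc,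
      smul_mul_assoc, ← dl_mul, ← dl_mul]
    simp only [mul_assoc]
  rw [e]
  simp only [avE_dl_avE hW h, key]
  rw [Finset.sum_const, Finset.card_univ, ← Nat.cast_smul_eq_nsmul ℂ, smul_smul,
    ← Nat.card_eq_fintype_card, mul_inv_cancel₀ (Nat.cast_ne_zero.2 Nat.card_pos.ne'), one_smul]

theorem gen_eq (i : Fin D.rank) : ∃ c : ℂ, c ≠ 0 ∧
    gen (F := F) hW h i = c • eNe hW h (M.simple i) := by
  refine ⟨(Fintype.card (F × ↥(bSub D F)) : ℕ), Nat.cast_ne_zero.2 Fintype.card_ne_zero, ?_⟩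
  conv_lhs => rw [gen, ← avE_mul_ofFun, ← ofFun_mul_avE, ← mul_assoc]
  rw [show ofFun (F := F) hW h (Pi.single (M.simple i) 1) =
    ∑ x, (Pi.single (M.simple i) (1 : ℂ) : M.Group → ℂ) (cellOf hW h x) • dl x by
      simp [ofFun, LinearMap.sum_apply], Finset.mul_sum, Finset.sum_mul]
  simp only [mul_smul_comm, smul_mul_assoc, avE_dl_avE hW h]
  rw [Finset.sum_congr rfl fun x _ => show
    (Pi.single (M.simple i) (1 : ℂ) : M.Group → ℂ) (cellOf hW h x) • eNe (F := F) hW h
      (cellOf hW h x) = (Pi.single (M.simple i) (1 : ℂ) : M.Group → ℂ) (cellOf hW h x) •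
        eNe (F := F) hW h (M.simple i) by
    rw [Pi.single_apply]; split_ifs with he
    · rw [he]
    · simp, ← Finset.sum_smul]
  congr 1
  simpa using sum_single_cellOf (F := F) hW h i fun _ => 1

theorem eNe_comm {z : MonoidAlgebra ℂ ↥(D.group F)} (hl : avE (bSub D F) * z = z)
    (hr : z * avE (bSub D F) = z) (hg : ∀ i, gen hW h i * z = z * gen hW h i) (w : M.Group) :
    eNe hW h w * z = z * eNe hW h w := by
  generalize hn : ℓ w = n
  induction n generalizing w with
  | zero =>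
    obtain rfl := M.toCoxeterSystem.length_eq_zero_iff.1 hn
    have h1 : cellOf hW h (1 : ↥(D.group F)) = 1 :=
      cellOf_eq hW h (by rw [cell_one hW h]; exact one_mem _)
    rw [← h1, ← avE_dl_avE, show dl (1 : ↥(D.group F)) = 1 from MonoidAlgebra.one_def.symm,
      mul_one, avE_mul_avE, hl, hr]
  | succ n ih =>
    have hw1 : w ≠ 1 := fun e => by subst e; simp at hn
    obtain ⟨i, hi⟩ := M.toCoxeterSystem.exists_leftDescent_of_ne_one hw1
    rw [CoxeterSystem.isLeftDescent_iff, CoxeterMatrix.toCoxeterSystem_simple] at hi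
    obtain ⟨v, rfl⟩ : ∃ v, w = M.simple i * v := ⟨M.simple i * w, (simple_mul_cancel i w).symm⟩
    rw [simple_mul_cancel] at hi
    obtain ⟨c, hc, e⟩ := gen_eq (F := F) hW h i
    have hgi : eNe hW h (M.simple i) * z = z * eNe hW h (M.simple i) := by
      have := hg i
      rw [e, smul_mul_assoc, mul_smul_comm] at this
      exact smul_right_injective _ hc this
    rw [← eNe_mul_eNe hW h (i := i) (w := v) (by omega), mul_assoc, ih v (by omega), ← mul_assoc,
      hgi, mul_assoc]

theorem heckeCtr_eq_map :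
    heckeCtr (bSub D F) = Submodule.map (ofFun hW h)
      (LinearMap.ker (commOps (M := M) (Fintype.card F : ℂ))) := by
  refine le_antisymm (fun z hz => ?_) ?_
  · obtain ⟨hl, hr, hc⟩ := hz
    have hzf : ofFun hW h (fun w => z.coeff (rep hW h w)) = z := by
      refine MonoidAlgebra.ext (Finsupp.ext fun g => ?_)
      rw [coeff_ofFun]
      obtain ⟨b, hb, b', hb', e⟩ := exists_eq_rep hW h g
      have h1 : dl b⁻¹ * z * dl b'⁻¹ = z := by
        conv_lhs => rw [← hl, ← hr, ← mul_assoc, mem_mul_avE _ (inv_mem hb), mul_assoc,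
          mul_assoc, avE_mul_mem _ (inv_mem hb')]
        rw [hr, hl]
      conv_lhs => rw [← h1]
      rw [MonoidAlgebra.coeff_mul_single_apply, mul_one, inv_inv,
        MonoidAlgebra.coeff_single_mul_apply, one_mul, inv_inv, ← mul_assoc, ← e]
    refine ⟨_, mem_ker_commOps.2 fun i => ?_, hzf⟩
    refine ofFun_injective (F := F) hW h ?_
    refine smul_right_injective _
      (Nat.cast_ne_zero.2 (Nat.card_pos (α := ↥(bSub D F))).ne' : (Nat.card ↥(bSub D F) : ℂ) ≠ 0) ?_
    show (_ : ℂ) • _ = (_ : ℂ) • _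
    rw [← gen_mul, ← mul_gen, hzf]
    obtain ⟨c, -, e⟩ := gen_eq (F := F) hW h i
    rw [e, smul_mul_assoc, mul_smul_comm, eNe, hc]
  · rintro _ ⟨f, hf, rfl⟩
    refine ⟨avE_mul_ofFun hW h f, ofFun_mul_avE hW h f, fun x => ?_⟩
    rw [avE_dl_avE hW h]
    refine eNe_comm hW h (avE_mul_ofFun hW h f) (ofFun_mul_avE hW h f) (fun i => ?_) _
    rw [gen_mul, mul_gen, mem_ker_commOps.1 hf i]

include hW h in
/-- The number of constituents of the permutation character on the flags. -/
theorem natCard_constituents_aux :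
    Nat.card {χ : Cfsg.IrrCharacter ↥(D.group F) //
      ∃ φ : ↥(D.group F) → ℂ, Cfsg.IsCharacter ↥(D.group F) φ ∧
        Cfsg.fixedPointCharacter (bSub D F) = (χ : ↥(D.group F) → ℂ) + φ} =
      Nat.card (ConjClasses M.Group) := by
  rw [← finrank_heckeCtr, heckeCtr_eq_map hW h,
    ← (Submodule.equivMapOfInjective _ (ofFun_injective hW h) _).finrank_eq]
  exact finrank_ker_commOps (exch h) (r := (Fintype.card F : ℝ))
    (Nat.cast_pos.2 Fintype.card_pos)

end CfsgLib.HeckeCentre
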