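import Mathlib

/-!
# The operators of the Hecke algebra of a finite Coxeter group

The left and right multiplications by the standard generators, acting on functions on the group,
and the Casimir operator `f ↦ ∑ t ^ (N - ℓ w) T_w f T_{w⁻¹}`, which lands in the centre.
-/

set_option autoImplicit false
set_option linter.unusedSectionVars false

namespace CfsgLib.HeckeCentre

open scoped ComplexConjugate

variable {β : Type*} {M : CoxeterMatrix β} {t : ℂ}

local notation "ℓ" => CoxeterSystem.length (CoxeterMatrix.toCoxeterSystem M)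
local notation "π" => CoxeterSystem.wordProd (CoxeterMatrix.toCoxeterSystem M)

/-- The case of the exchange condition behind the commutation of the two actions. -/
def Exch (M : CoxeterMatrix β) : Prop :=
  ∀ (i j : β) (w : M.Group),
    M.toCoxeterSystem.length (M.simple i * w) = M.toCoxeterSystem.length w + 1 →
    M.toCoxeterSystem.length (w * M.simple j) = M.toCoxeterSystem.length w + 1 →
    M.toCoxeterSystem.length (M.simple i * w * M.simple j) = M.toCoxeterSystem.length w →
    M.simple i * w = w * M.simple j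

theorem simple_sq (i : β) : M.simple i * M.simple i = 1 :=
  M.toCoxeterSystem.simple_mul_simple_self i

theorem simple_mul_cancel (i : β) (w : M.Group) : M.simple i * (M.simple i * w) = w := by
  rw [← mul_assoc, simple_sq, one_mul]

theorem inv_simple (i : β) : (M.simple i)⁻¹ = M.simple i :=
  inv_eq_of_mul_eq_one_right (simple_sq i)

theorem len_left (i : β) (w : M.Group) :
    ℓ (M.simple i * w) = ℓ w + 1 ∨ ℓ (M.simple i * w) + 1 = ℓ w :=
  M.toCoxeterSystem.length_simple_mul w i

theorem len_right (i : β) (w : M.Group) :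
    ℓ (w * M.simple i) = ℓ w + 1 ∨ ℓ (w * M.simple i) + 1 = ℓ w :=
  M.toCoxeterSystem.length_mul_simple w i

theorem len_inv_simple (i : β) (w : M.Group) : ℓ (M.simple i * w⁻¹) = ℓ (w * M.simple i) := by
  rw [← M.toCoxeterSystem.length_inv (w * M.simple i), mul_inv_rev, inv_simple]

theorem Exch.eq_of_length (hE : Exch M) (i j : β) (w : M.Group)
    (h1 : ℓ (M.simple i * w * M.simple j) = ℓ w)
    (h2 : ℓ (M.simple i * w) = ℓ (w * M.simple j)) : M.simple i * w = w * M.simple j := by
  rcases len_left i w with h | h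
  · exact hE i j w h (by omega) h1
  · have := hE i j (M.simple i * w) (by rw [simple_mul_cancel]; omega) (by omega) (by
      rw [simple_mul_cancel]; omega)
    rw [simple_mul_cancel, mul_assoc] at this
    conv_lhs => rw [this, simple_mul_cancel]

/-- Left multiplication by a generator. -/
noncomputable def opL (t : ℂ) (i : β) : (M.Group → ℂ) →ₗ[ℂ] (M.Group → ℂ) where
  toFun f w := if ℓ (M.simple i * w) = ℓ w + 1 then t * f (M.simple i * w)
    else f (M.simple i * w) + (t - 1) * f w
  map_add' f g := by
    funext w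
    simp only [Pi.add_apply]
    split_ifs <;> ring
  map_smul' c f := by
    funext w
    simp only [Pi.smul_apply, smul_eq_mul, RingHom.id_apply]
    split_ifs <;> ring

theorem opL_apply (i : β) (f : M.Group → ℂ) (w : M.Group) :
    opL t i f w = if ℓ (M.simple i * w) = ℓ w + 1 then t * f (M.simple i * w)
      else f (M.simple i * w) + (t - 1) * f w := rfl

/-- Inversion of the argument. -/
noncomputable def flipArg : (M.Group → ℂ) →ₗ[ℂ] (M.Group → ℂ) :=
  LinearMap.funLeft ℂ ℂ fun w => w⁻¹

@[simp] theorem flipArg_apply (f : M.Group → ℂ) (w : M.Group) : flipArg f w = f w⁻¹ := rfl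

@[simp] theorem flipArg_flipArg (f : M.Group → ℂ) : flipArg (flipArg f) = f :=
  funext fun w => by simp

/-- Right multiplication by a generator. -/
noncomputable def opR (t : ℂ) (i : β) : (M.Group → ℂ) →ₗ[ℂ] (M.Group → ℂ) :=
  flipArg ∘ₗ opL t i ∘ₗ flipArg

theorem opR_eq_flip (i : β) (f : M.Group → ℂ) : opR t i f = flipArg (opL t i (flipArg f)) := rfl

theorem opR_apply (i : β) (f : M.Group → ℂ) (w : M.Group) :
    opR t i f w = if ℓ (w * M.simple i) = ℓ w + 1 then t * f (w * M.simple i)
      else f (w * M.simple i) + (t - 1) * f w := by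
  rw [opR_eq_flip, flipArg_apply, opL_apply, len_inv_simple, M.toCoxeterSystem.length_inv,
    flipArg_apply, flipArg_apply, mul_inv_rev, inv_simple, inv_inv]

theorem opL_opR (hE : Exch M) (i j : β) (f : M.Group → ℂ) :
    opL t i (opR t j f) = opR t j (opL t i f) := by
  funext w
  rw [opL_apply, opR_apply, opR_apply, opR_apply, opL_apply, opL_apply,
    ← mul_assoc (M.simple i) w (M.simple j)]
  have ha := len_left i w
  have hb := len_right j w
  have hc := len_right j (M.simple i * w)
  have hd := len_left i (w * M.simple j)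
  rw [← mul_assoc] at hd
  by_cases h1 : ℓ (M.simple i * w * M.simple j) = ℓ w ∧ ℓ (M.simple i * w) = ℓ (w * M.simple j)
  · have e := hE.eq_of_length i j w h1.1 h1.2
    rw [e] at ha hc ⊢
  · split_ifs <;> first | (exfalso; omega) | ring

/-- The quadratic relation. -/
theorem opL_opL (i : β) (f : M.Group → ℂ) :
    opL t i (opL t i f) = t • f + (t - 1) • opL t i f := by
  funext w
  rw [Pi.add_apply, Pi.smul_apply, Pi.smul_apply, smul_eq_mul, smul_eq_mul, opL_apply, opL_apply,
    opL_apply, simple_mul_cancel]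
  rcases len_left i w with h | h <;> split_ifs <;> first | (exfalso; omega) | ring

theorem opR_opR (i : β) (f : M.Group → ℂ) :
    opR t i (opR t i f) = t • f + (t - 1) • opR t i f := by
  simp only [opR_eq_flip, flipArg_flipArg, opL_opL, map_add, map_smul]

/-! ### Words -/

/-- Left multiplication along a word. -/
noncomputable def wordL (t : ℂ) (ω : List β) : Module.End ℂ (M.Group → ℂ) :=
  (ω.map fun i => opL t i).prod

/-- Right multiplication along a word. -/
noncomputable def wordR (t : ℂ) (ω : List β) : Module.End ℂ (M.Group → ℂ) :=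
  (ω.map fun i => opR t i).prod

@[simp] theorem wordL_nil (f : M.Group → ℂ) : wordL t [] f = f := rfl

theorem wordL_cons (i : β) (ω : List β) (f : M.Group → ℂ) :
    wordL t (i :: ω) f = opL t i (wordL t ω f) := by
  rw [wordL, List.map_cons, List.prod_cons]
  rfl

@[simp] theorem wordR_nil (f : M.Group → ℂ) : wordR t [] f = f := rfl

theorem wordR_cons (i : β) (ω : List β) (f : M.Group → ℂ) :
    wordR t (i :: ω) f = opR t i (wordR t ω f) := by
  rw [wordR, List.map_cons, List.prod_cons]
  rfl

theorem wordL_append (ω ω' : List β) (f : M.Group → ℂ) :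
    wordL t (ω ++ ω') f = wordL t ω (wordL t ω' f) := by
  rw [wordL, List.map_append, List.prod_append]
  rfl

theorem wordR_eq_flip (ω : List β) (f : M.Group → ℂ) :
    wordR t ω f = flipArg (wordL t ω (flipArg f)) := by
  induction ω with
  | nil => simp
  | cons i ω ih => rw [wordR_cons, wordL_cons, ih, opR_eq_flip, flipArg_flipArg]

theorem wordL_opR (hE : Exch M) (ω : List β) (j : β) (f : M.Group → ℂ) :
    wordL t ω (opR t j f) = opR t j (wordL t ω f) := by
  induction ω with
  | nil => rfl
  | cons i ω ih => rw [wordL_cons, wordL_cons, ih, opL_opR hE]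

theorem wordL_wordR (hE : Exch M) (ω ω' : List β) (f : M.Group → ℂ) :
    wordL t ω (wordR t ω' f) = wordR t ω' (wordL t ω f) := by
  induction ω' with
  | nil => rfl
  | cons i ω' ih => rw [wordR_cons, wordR_cons, wordL_opR hE, ih]

variable [DecidableEq M.Group]

theorem opL_single (i : β) {v : M.Group} (hv : ℓ (M.simple i * v) = ℓ v + 1) :
    opL t i (Pi.single v (1 : ℂ)) = Pi.single (M.simple i * v) 1 := by
  funext w
  rw [opL_apply]
  by_cases h1 : w = M.simple i * v
  · subst h1
    rw [simple_mul_cancel, Pi.single_eq_same, Pi.single_eq_same, if_neg (by omega),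
      Pi.single_eq_of_ne (M.toCoxeterSystem.length_simple_mul_ne v i |> fun h e => h (by
        rw [CoxeterMatrix.toCoxeterSystem_simple, e])), mul_zero, add_zero]
  · rw [Pi.single_eq_of_ne h1]
    have h2 : M.simple i * w ≠ v := fun e => h1 (by rw [← e, simple_mul_cancel])
    rw [Pi.single_eq_of_ne h2]
    split_ifs with h3
    · rw [mul_zero]
    · rw [Pi.single_eq_of_ne (fun e => h3 (by rw [e, hv])), mul_zero, add_zero]

theorem wordL_single_one {ω : List β} (hω : M.toCoxeterSystem.IsReduced ω) :
    wordL t ω (Pi.single 1 1) = Pi.single (π ω) (1 : ℂ) := by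
  induction ω with
  | nil => simp
  | cons i ω ih =>
    have h1 : M.toCoxeterSystem.IsReduced ω := hω.drop 1
    rw [wordL_cons, ih h1, CoxeterSystem.wordProd_cons, CoxeterMatrix.toCoxeterSystem_simple]
    refine opL_single i ?_
    have h2 := hω.eq
    rw [CoxeterSystem.wordProd_cons, CoxeterMatrix.toCoxeterSystem_simple, List.length_cons] at h2
    rw [h2, h1.eq]

theorem flipArg_single (v : M.Group) (c : ℂ) : flipArg (Pi.single v c) = Pi.single v⁻¹ c := by
  funext w
  simp [Pi.single_apply, inv_eq_iff_eq_inv]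

theorem wordR_single_one {ω : List β} (hω : M.toCoxeterSystem.IsReduced ω) :
    wordR t ω (Pi.single 1 1) = Pi.single (π ω)⁻¹ (1 : ℂ) := by
  rw [wordR_eq_flip, flipArg_single, inv_one, wordL_single_one hω, flipArg_single]

variable [Fintype M.Group]

/-- An operator commuting with the right action is determined by the value at the identity. -/
theorem eq_of_single_one {A A' : (M.Group → ℂ) →ₗ[ℂ] (M.Group → ℂ)}
    (hA : ∀ ω f, A (wordR t ω f) = wordR t ω (A f))
    (hA' : ∀ ω f, A' (wordR t ω f) = wordR t ω (A' f))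
    (h : A (Pi.single 1 1) = A' (Pi.single 1 1)) : A = A' := by
  refine LinearMap.pi_ext fun v c => ?_
  obtain ⟨ω, hω, e⟩ := M.toCoxeterSystem.exists_isReduced v⁻¹
  have e1 : Pi.single v c = c • wordR t ω (Pi.single (1 : M.Group) (1 : ℂ)) := by
    rw [wordR_single_one hω, ← e, inv_inv]
    funext w
    simp [Pi.single_apply]
  rw [e1, map_smul, map_smul, hA, hA', h]

theorem wordL_eq_of_prod (hE : Exch M) {ω ω' : List β} (hω : M.toCoxeterSystem.IsReduced ω)
    (hω' : M.toCoxeterSystem.IsReduced ω') (h : π ω = π ω') :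
    (wordL t ω : Module.End ℂ (M.Group → ℂ)) = wordL t ω' :=
  eq_of_single_one (t := t) (fun _ _ => wordL_wordR hE _ _ _) (fun _ _ => wordL_wordR hE _ _ _)
    (by rw [wordL_single_one hω, wordL_single_one hω', h])

/-- A reduced word. -/
noncomputable def redWord (w : M.Group) : List β :=
  (M.toCoxeterSystem.exists_isReduced w).choose

theorem redWord_spec (w : M.Group) :
    M.toCoxeterSystem.IsReduced (redWord w) ∧ w = π (redWord w) :=
  (M.toCoxeterSystem.exists_isReduced w).choose_spec

theorem wordL_redWord_mul (hE : Exch M) {i : β} {w : M.Group}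
    (hw : ℓ (M.simple i * w) = ℓ w + 1) (f : M.Group → ℂ) :
    wordL t (redWord (M.simple i * w)) f = opL t i (wordL t (redWord w) f) := by
  have h : M.toCoxeterSystem.IsReduced (i :: redWord w) := by
    show ℓ (π (i :: redWord w)) = _
    rw [CoxeterSystem.wordProd_cons, CoxeterMatrix.toCoxeterSystem_simple, ← (redWord_spec w).2,
      hw, List.length_cons, ← (redWord_spec w).1.eq, ← (redWord_spec w).2]
  rw [wordL_eq_of_prod hE (redWord_spec (M.simple i * w)).1 h (by
    rw [← (redWord_spec (M.simple i * w)).2, CoxeterSystem.wordProd_cons,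
      CoxeterMatrix.toCoxeterSystem_simple, ← (redWord_spec w).2]), wordL_cons]

theorem wordR_redWord_mul (hE : Exch M) {i : β} {w : M.Group}
    (hw : ℓ (M.simple i * w) = ℓ w + 1) (f : M.Group → ℂ) :
    wordR t (redWord (M.simple i * w)) f = opR t i (wordR t (redWord w) f) := by
  rw [wordR_eq_flip, wordR_eq_flip, wordL_redWord_mul hE hw, opR_eq_flip, flipArg_flipArg]

/-! ### The Casimir operator -/

variable (M) in
/-- The largest length. -/
noncomputable def maxLen : ℕ := Finset.univ.sup fun w : M.Group => M.toCoxeterSystem.length w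

theorem length_le_maxLen (w : M.Group) : ℓ w ≤ maxLen M := Finset.le_sup (Finset.mem_univ w)

/-- One term of the Casimir operator. -/
noncomputable def casTerm (t : ℂ) (w : M.Group) : (M.Group → ℂ) →ₗ[ℂ] (M.Group → ℂ) :=
  t ^ (maxLen M - ℓ w) • (wordL t (redWord w) ∘ₗ wordR t (redWord w))

/-- The Casimir operator. -/
noncomputable def cas (t : ℂ) : (M.Group → ℂ) →ₗ[ℂ] (M.Group → ℂ) := ∑ w, casTerm t w

theorem cas_apply (f : M.Group → ℂ) :
    cas t f = ∑ w, t ^ (maxLen M - ℓ w) • wordL t (redWord w) (wordR t (redWord w) f) := by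
  rw [cas, LinearMap.sum_apply]
  rfl

theorem opL_casTerm_pair (hE : Exch M) {i : β} {w : M.Group}
    (hw : ℓ (M.simple i * w) = ℓ w + 1) (f : M.Group → ℂ) :
    opL t i (casTerm t w f) + opL t i (casTerm t (M.simple i * w) f) =
      opR t i (casTerm t w f) + opR t i (casTerm t (M.simple i * w) f) := by
  obtain ⟨a, ha⟩ := Nat.exists_eq_add_of_le (length_le_maxLen (M.simple i * w))
  simp only [casTerm, LinearMap.smul_apply, LinearMap.comp_apply, map_smul]
  rw [hw] at ha ⊢
  rw [show maxLen M - ℓ w = a + 1 by omega, show maxLen M - (ℓ w + 1) = a by omega, pow_succ]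
  rw [wordR_redWord_mul hE hw, wordL_redWord_mul hE hw, opL_opL,
    ← opL_opR (t := t) hE, ← wordL_opR hE, ← wordL_opR hE, opR_opR]
  simp only [map_add, map_smul, wordL_opR hE, opL_opR (t := t) hE]
  module

theorem opL_cas (hE : Exch M) (i : β) (f : M.Group → ℂ) :
    opL t i (cas t f) = opR t i (cas t f) := by
  have key : ∀ w, opL t i (casTerm t w f) + opL t i (casTerm t (M.simple i * w) f) =
      opR t i (casTerm t w f) + opR t i (casTerm t (M.simple i * w) f) := by
    intro w
    rcases len_left i w with h | h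
    · exact opL_casTerm_pair hE h f
    · have := opL_casTerm_pair (t := t) hE (i := i) (w := M.simple i * w)
        (by rw [simple_mul_cancel]; omega) f
      rw [simple_mul_cancel] at this
      rw [add_comm, this, add_comm]
  have h2 : ∀ A : (M.Group → ℂ) →ₗ[ℂ] (M.Group → ℂ), (2 : ℂ) • A (cas t f) =
      ∑ w, (A (casTerm t w f) + A (casTerm t (M.simple i * w) f)) := by
    intro A
    rw [cas, LinearMap.sum_apply, map_sum, Finset.sum_add_distrib, two_smul]
    congr 1
    exact (Fintype.sum_equiv (Equiv.mulLeft (M.simple i)) _ _ fun w => rfl).symm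
  refine smul_right_injective (M.Group → ℂ) (two_ne_zero (α := ℂ)) ?_
  show (2 : ℂ) • _ = (2 : ℂ) • _
  rw [h2, h2, Finset.sum_congr rfl fun w _ => key w]

/-! ### Positivity -/

/-- The form for which the generators are self-adjoint. -/
noncomputable def hForm (r : ℝ) (f g : M.Group → ℂ) : ℂ :=
  ∑ w, (r : ℂ) ^ ℓ w * (conj (f w) * g w)

theorem hForm_opL (r : ℝ) (i : β) (f g : M.Group → ℂ) :
    hForm r (opL (r : ℂ) i f) g = hForm r f (opL (r : ℂ) i g) := by
  have key : ∀ w, (r : ℂ) ^ ℓ w * (conj (opL (r : ℂ) i f w) * g w) +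
      (r : ℂ) ^ ℓ (M.simple i * w) *
        (conj (opL (r : ℂ) i f (M.simple i * w)) * g (M.simple i * w)) =
      (r : ℂ) ^ ℓ w * (conj (f w) * opL (r : ℂ) i g w) +
      (r : ℂ) ^ ℓ (M.simple i * w) *
        (conj (f (M.simple i * w)) * opL (r : ℂ) i g (M.simple i * w)) := by
    intro w
    rw [opL_apply, opL_apply, opL_apply, opL_apply, simple_mul_cancel]
    rcases len_left i w with h | h
    · rw [if_pos h, if_neg (by omega), if_pos h, if_neg (by omega), h, pow_succ]
      simp only [map_mul, map_add, map_sub, Complex.conj_ofReal, map_one]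
      ring
    · rw [if_neg (by omega), if_pos (by omega), if_neg (by omega), if_pos (by omega), ← h,
        pow_succ]
      simp only [map_mul, map_add, map_sub, Complex.conj_ofReal, map_one]
      ring
  have h2 : ∀ F : M.Group → ℂ, ∑ w, (F w + F (M.simple i * w)) = 2 * ∑ w, F w := by
    intro F
    rw [Finset.sum_add_distrib, two_mul]
    congr 1
    exact Fintype.sum_equiv (Equiv.mulLeft (M.simple i)) _ _ fun w => rfl
  have h3 := Finset.sum_congr rfl fun w (_ : w ∈ Finset.univ) => key w
  rw [h2 fun w => (r : ℂ) ^ ℓ w * (conj (opL (r : ℂ) i f w) * g w),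
    h2 fun w => (r : ℂ) ^ ℓ w * (conj (f w) * opL (r : ℂ) i g w)] at h3
  exact mul_left_cancel₀ two_ne_zero h3

theorem hForm_wordL (r : ℝ) (ω : List β) (f g : M.Group → ℂ) :
    hForm r (wordL (r : ℂ) ω f) g = hForm r f (wordL (r : ℂ) ω.reverse g) := by
  induction ω generalizing g with
  | nil => simp
  | cons i ω ih =>
    rw [wordL_cons, hForm_opL, ih, List.reverse_cons, wordL_append, wordL_cons, wordL_nil]

theorem hForm_self (r : ℝ) (f : M.Group → ℂ) :
    hForm r f f = ((∑ w, r ^ ℓ w * Complex.normSq (f w) : ℝ) : ℂ) := by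
  rw [hForm, Complex.ofReal_sum]
  exact Finset.sum_congr rfl fun w _ => by
    rw [Complex.ofReal_mul, Complex.ofReal_pow, Complex.normSq_eq_conj_mul_self]

theorem wordR_eq_wordL_reverse (hE : Exch M) {z : M.Group → ℂ}
    (hz : ∀ i, opL t i z = opR t i z) (ω : List β) :
    wordR t ω z = wordL t ω.reverse z := by
  induction ω with
  | nil => rfl
  | cons i ω ih =>
    rw [wordR_cons, ih, ← wordL_opR hE, ← hz, List.reverse_cons, wordL_append, wordL_cons,
      wordL_nil]

theorem cas_injective_on_ker (hE : Exch M) {r : ℝ} (hr : 0 < r) {z : M.Group → ℂ}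
    (hz : ∀ i, opL (r : ℂ) i z = opR (r : ℂ) i z) (h0 : cas (r : ℂ) z = 0) : z = 0 := by
  set a : M.Group → M.Group → ℂ := fun v => wordL (r : ℂ) (redWord v).reverse z
  have h1 : hForm r z (cas (r : ℂ) z) = ((∑ v, r ^ (maxLen M - ℓ v) *
      ∑ w, r ^ ℓ w * Complex.normSq (a v w) : ℝ) : ℂ) := by
    rw [Complex.ofReal_sum, cas_apply]
    simp only [hForm, Finset.sum_apply, Pi.smul_apply, smul_eq_mul, Finset.mul_sum]
    rw [Finset.sum_comm]
    refine Finset.sum_congr rfl fun v _ => ?_
    rw [← Finset.mul_sum, Complex.ofReal_mul, Complex.ofReal_pow,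
      ← hForm_self, hForm_wordL, List.reverse_reverse, hForm, Finset.mul_sum]
    refine Finset.sum_congr rfl fun w _ => ?_
    rw [wordR_eq_wordL_reverse hE hz]
    ring
  rw [h0, show hForm r z (0 : M.Group → ℂ) = 0 by simp [hForm], eq_comm,
    Complex.ofReal_eq_zero] at h1
  have hpos : ∀ v w, 0 ≤ r ^ ℓ w * Complex.normSq (a v w) := fun v w =>
    mul_nonneg (pow_nonneg hr.le _) (Complex.normSq_nonneg _)
  rw [Finset.sum_eq_zero_iff_of_nonneg fun v _ =>
    mul_nonneg (pow_nonneg hr.le _) (Finset.sum_nonneg fun w _ => hpos v w)] at h1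
  have h2 := (mul_eq_zero.1 (h1 1 (Finset.mem_univ _))).resolve_left (pow_ne_zero _ hr.ne')
  rw [Finset.sum_eq_zero_iff_of_nonneg fun w _ => hpos 1 w] at h2
  have h3 : redWord (1 : M.Group) = [] := by
    rw [← List.length_eq_zero_iff, ← (redWord_spec (1 : M.Group)).1.eq,
      ← (redWord_spec (1 : M.Group)).2, M.toCoxeterSystem.length_one]
  funext w
  have h4 := (mul_eq_zero.1 (h2 w (Finset.mem_univ _))).resolve_left (pow_ne_zero _ hr.ne')
  simpa [a, h3, Complex.normSq_eq_zero] using h4

end CfsgLib.HeckeCentre
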